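import Groth.Agent.Lib.NagataJac.Main
import Groth.Agent.Lib.CKaehler2.EtaleFree
import Groth.Agent.Lib.GeomReg.Local
import Groth.Agent.Lib.RegCompl.Basic
import Groth.Agent.Lib.N2.Excellent

/-!
# The three conditions of Nagata's criterion
-/

universe u

open IsLocalRing
open scoped TensorProduct

set_option linter.style.haveILetI false
set_option linter.unusedSectionVars false

noncomputable section

namespace GrothLib.NagataJac

section Geom

variable (k : Type u) [Field k] (s : ℕ)

/-- The fraction field of a power series ring is geometrically reduced. -/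
theorem isGeometricallyReduced_fractionField (L' : Type u) [Field L'] [Algebra (MvPowerSeries (Fin s) k) L']
    [IsFractionRing (MvPowerSeries (Fin s) k) L'] [Algebra k L'] [IsScalarTower k (MvPowerSeries (Fin s) k) L'] :
    Algebra.IsGeometricallyReduced k L' := by
  refine GrothLib.GeomRed2.isGeometricallyReduced_of_forall_purelyInseparable fun k' _ _ hfin _ => ?_
  haveI := GrothLib.CKaehler2.isGeometricallyRegular_powerSeries k s k' hfin
  haveI := GrothLib.GeomReg.isRegularRing_tensor_localization (R := k) (S := MvPowerSeries (Fin s) k) (S' := L')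
    (nonZeroDivisors _) k'
  exact GrothLib.N2.isReduced_of_isRegularRing _

/-- Geometrically reduced, then separable. -/
theorem isGeometricallyReduced_trans (L' L : Type u) [Field L'] [Field L] [Algebra k L'] [Algebra k L] [Algebra L' L]
    [IsScalarTower k L' L] [Algebra.IsGeometricallyReduced k L'] [Algebra.IsSeparable L' L] :
    Algebra.IsGeometricallyReduced k L := by
  rw [Algebra.isGeometricallyReduced_field_iff]
  let K := AlgebraicClosure k
  haveI : Algebra.IsGeometricallyReduced L' L := GrothLib.GeomRed2.isGeometricallyReduced_of_isSeparable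
  haveI : IsReduced (L' ⊗[k] K) := by
    haveI : IsReduced (K ⊗[k] L') := GrothLib.GeomRed2.isReduced_tensor_field K
    exact isReduced_of_injective (Algebra.TensorProduct.comm k L' K) (Algebra.TensorProduct.comm k L' K).injective
  haveI : IsReduced ((L' ⊗[k] K) ⊗[L'] L) := GrothLib.GrpSchField.isReduced_tensorProduct
  let e : (L' ⊗[k] K) ⊗[L'] L ≃+* K ⊗[k] L :=
    ((Algebra.TensorProduct.comm L' (L' ⊗[k] K) L).toRingEquiv.trans
      (Algebra.TensorProduct.cancelBaseChange k L' L' L K).toRingEquiv).trans
      (Algebra.TensorProduct.comm k L K).toRingEquiv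
  exact isReduced_of_injective e.symm e.symm.injective

/-- The residue field at a prime embedded in a geometrically reduced field. -/
theorem isGeometricallyReduced_residueField_of_hom (B₀ : Type u) [CommRing B₀] [Algebra k B₀] (pb : Ideal B₀)
    [pb.IsPrime] (L : Type u) [Field L] [Algebra k L] [Algebra.IsGeometricallyReduced k L] (φ : B₀ →ₐ[k] L)
    (hφ : ∀ z, φ z = 0 ↔ z ∈ pb) :
    Algebra.IsGeometricallyReduced k (ResidueField (Localization.AtPrime pb)) := by
  let B := Localization.AtPrime pb
  let ψ : B →ₐ[k] L := IsLocalization.liftAlgHom (M := pb.primeCompl) (f := φ)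
    fun y => isUnit_iff_ne_zero.2 fun h => y.2 ((hφ _).1 h)
  have hψ : ∀ z, ψ (algebraMap _ B z) = φ z := fun z => IsLocalization.lift_eq _ z
  have hker : ∀ z ∈ maximalIdeal B, ψ z = 0 := fun z hz => by
    obtain ⟨a, w, rfl⟩ := IsLocalization.exists_mk'_eq pb.primeCompl z
    have h1 : ψ (IsLocalization.mk' B a w) * φ w = φ a := by
      rw [← hψ w, ← hψ a, ← map_mul, IsLocalization.mk'_spec]
    rw [(hφ a).2 ((IsLocalization.AtPrime.mk'_mem_maximal_iff B pb a w).1 hz)] at h1
    exact (mul_eq_zero.1 h1).resolve_right fun h => w.2 ((hφ _).1 h)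
  let ρ : ResidueField B →ₐ[k] L := Ideal.Quotient.liftₐ (maximalIdeal B) ψ hker
  exact Algebra.IsGeometricallyReduced.of_injective ρ ρ.toRingHom.injective

end Geom

section Aux

variable (k : Type u) [Field k] (s : ℕ)

/-- Abstract form of `isGeometricallyReduced_residueField`. -/
theorem isGeometricallyReduced_residueField_aux (C : Type u) [CommRing C] [Algebra k C]
    [Algebra (MvPowerSeries (Fin s) k) C] [IsScalarTower k (MvPowerSeries (Fin s) k) C]
    (L' L : Type u) [Field L'] [Field L] [Algebra (MvPowerSeries (Fin s) k) L']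
    [IsFractionRing (MvPowerSeries (Fin s) k) L'] [Algebra C L] [IsFractionRing C L] [Algebra L' L]
    [Algebra (MvPowerSeries (Fin s) k) L] [IsScalarTower (MvPowerSeries (Fin s) k) C L]
    [IsScalarTower (MvPowerSeries (Fin s) k) L' L] [Algebra.IsSeparable L' L]
    (B₀ : Type u) [CommRing B₀] [Algebra k B₀] (pb : Ideal B₀) [pb.IsPrime] (χ : B₀ →ₐ[k] C)
    (hχ : ∀ z, χ z = 0 ↔ z ∈ pb) :
    Algebra.IsGeometricallyReduced k (ResidueField (Localization.AtPrime pb)) := by
  letI : Algebra k L := ((algebraMap C L).comp (algebraMap k C)).toAlgebra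
  haveI : IsScalarTower k C L := IsScalarTower.of_algebraMap_eq fun _ => rfl
  letI : Algebra k L' := ((algebraMap (MvPowerSeries (Fin s) k) L').comp
    (algebraMap k (MvPowerSeries (Fin s) k))).toAlgebra
  haveI : IsScalarTower k (MvPowerSeries (Fin s) k) L' := IsScalarTower.of_algebraMap_eq fun _ => rfl
  haveI : IsScalarTower k L' L := IsScalarTower.of_algebraMap_eq fun c => by
    show algebraMap C L (algebraMap k C c) = algebraMap L' L (algebraMap (MvPowerSeries (Fin s) k) L' (algebraMap k (MvPowerSeries (Fin s) k) c))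
    rw [← IsScalarTower.algebraMap_apply (MvPowerSeries (Fin s) k) L' L,
      IsScalarTower.algebraMap_apply (MvPowerSeries (Fin s) k) C L, ← IsScalarTower.algebraMap_apply k _ C]
  haveI := isGeometricallyReduced_fractionField k s L'
  haveI := isGeometricallyReduced_trans k L' L
  exact isGeometricallyReduced_residueField_of_hom k B₀ pb L ((IsScalarTower.toAlgHom k C L).comp χ) fun z =>
    (map_eq_zero_iff (algebraMap C L) (IsFractionRing.injective C L)).trans (hχ z)

end Aux

variable {k : Type u} [Field k] {r : ℕ}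

/-- The localizations of a power series ring are regular. -/
theorem isRegularLocalRing_atPrime (p : Ideal (MvPowerSeries (Fin r) k)) [p.IsPrime] :
    IsRegularLocalRing (Localization.AtPrime p) := by
  haveI : IsRegularRing (MvPowerSeries (Fin r) k) := GrothLib.Serre.isRegularRing_of_isRegularLocalRing _
  exact isRegularRing_iff.1 inferInstance p

variable (p : Ideal (MvPowerSeries (Fin r) k)) [p.IsPrime]
  (L : Type u) [Field L] [Algebra (MvPowerSeries (Fin r) k ⧸ p) L]
  [IsFractionRing (MvPowerSeries (Fin r) k ⧸ p) L]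

omit [IsFractionRing (MvPowerSeries (Fin r) k ⧸ p) L] in
/-- A derivation of the power series ring acts through the gradient. -/
theorem ev_derivation (D : Derivation k (MvPowerSeries (Fin r) k) (MvPowerSeries (Fin r) k))
    (f : MvPowerSeries (Fin r) k) :
    ev p L (D f) = ∑ i, grad p L f i * ev p L (D (MvPowerSeries.X i)) := by
  classical
  let P := MvPowerSeries (Fin r) k
  let D' : Derivation k P P := D - ∑ i, D (MvPowerSeries.X i) • MvPowerSeries.pderiv k i
  have hsum : ∀ g, (∑ i, D (MvPowerSeries.X i) • MvPowerSeries.pderiv k i : Derivation k P P) g =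
      ∑ i, D (MvPowerSeries.X i) * MvPowerSeries.pderiv k i g := fun g => by
    rw [← Derivation.coeFnAddMonoidHom_apply, map_sum, Finset.sum_apply]
    rfl
  have h0 : D' = 0 := GrothLib.CKaehler2.derivation_eq_zero k D' fun j => by
    simp only [D', Derivation.sub_apply, hsum, MvPowerSeries.pderiv_X, Pi.single_apply]
    simp
  have h1 := Derivation.congr_fun h0 f
  simp only [D', Derivation.sub_apply, hsum, Derivation.zero_apply, sub_eq_zero] at h1
  rw [h1, map_sum]
  exact Finset.sum_congr rfl fun i _ => by rw [map_mul, mul_comm]; rfl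

/-- An invertible Jacobian makes the gradients independent. -/
theorem linearIndependent_of_det {m : ℕ} (f : Fin m → MvPowerSeries (Fin r) k)
    (D : Fin m → Derivation k (MvPowerSeries (Fin r) k) (MvPowerSeries (Fin r) k))
    (hdet : Matrix.det (Matrix.of fun i j => D i (f j)) ∉ p) :
    LinearIndependent L (fun i => grad p L (f i)) := by
  classical
  rw [Fintype.linearIndependent_iff]
  intro c hc
  let M := (Matrix.of fun i j => D i (f j)).map (ev p L)
  have hM : M.det ≠ 0 := by
    rw [show M = (ev p L).mapMatrix (Matrix.of fun i j => D i (f j)) from rfl, ← RingHom.map_det]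
    exact ev_ne_zero p L hdet
  have h0 : M.mulVec c = 0 := funext fun i => by
    have e1 : M.mulVec c i = ∑ j, (∑ t, grad p L (f j) t * ev p L (D i (MvPowerSeries.X t))) * c j := by
      simp only [Matrix.mulVec, dotProduct, M, Matrix.map_apply, Matrix.of_apply]
      exact Finset.sum_congr rfl fun j _ => congrArg (· * c j) (ev_derivation p L (D i) (f j))
    rw [Pi.zero_apply, e1]
    simp only [Finset.sum_mul]
    rw [Finset.sum_comm]
    refine Finset.sum_eq_zero fun t _ => ?_
    have := congrFun hc t
    simp only [Finset.sum_apply, Pi.smul_apply, smul_eq_mul, Pi.zero_apply] at this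
    rw [show ∑ j, grad p L (f j) t * ev p L (D i (MvPowerSeries.X t)) * c j =
      (∑ j, c j * grad p L (f j) t) * ev p L (D i (MvPowerSeries.X t)) by
        rw [Finset.sum_mul]; exact Finset.sum_congr rfl fun j _ => by ring, this, zero_mul]
  exact fun i => congrFun (Matrix.eq_zero_of_mulVec_eq_zero hM h0) i

/-- Independent gradients give derivations with invertible Jacobian. -/
theorem exists_derivations {m : ℕ} (f : Fin m → MvPowerSeries (Fin r) k)
    (hli : LinearIndependent L (fun i => grad p L (f i))) :
    ∃ D : Fin m → Derivation k (MvPowerSeries (Fin r) k) (MvPowerSeries (Fin r) k),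
      Matrix.det (Matrix.of fun i j => D i (f j)) ∉ p := by
  classical
  let Γ : (Fin m → L) →ₗ[L] (Fin r → L) := Fintype.linearCombination L (fun i => grad p L (f i))
  have hinj : Function.Injective Γ := linearIndependent_iff_injective_fintypeLinearCombination.1 hli
  obtain ⟨Φ, hΦ⟩ := Γ.exists_leftInverse_of_injective (LinearMap.ker_eq_bot.2 hinj)
  let R0 : Fin m → Fin r → L := fun i t => Φ (Pi.single t 1) i
  have hR0 : ∀ i j, ∑ t, R0 i t * grad p L (f j) t = if i = j then 1 else 0 := fun i j => by
    have h1 : Φ (grad p L (f j)) = Pi.single j 1 := by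
      have h2 := LinearMap.congr_fun hΦ (Pi.single j 1)
      simpa [Γ, Fintype.linearCombination_apply_single] using h2
    have h3 := congrFun h1 i
    rw [show Φ (grad p L (f j)) = ∑ t, grad p L (f j) t • Φ (Pi.single t 1) by
      conv_lhs => rw [pi_eq_sum_univ' (grad p L (f j))]
      simp [map_sum, map_smul]] at h3
    simp only [Finset.sum_apply, Pi.smul_apply, smul_eq_mul, Pi.single_apply] at h3
    rw [← h3]
    exact Finset.sum_congr rfl fun t _ => mul_comm _ _
  obtain ⟨d, hd⟩ := IsLocalization.exist_integer_multiples_of_finite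
    (nonZeroDivisors (MvPowerSeries (Fin r) k ⧸ p)) (fun z : Fin m × Fin r => R0 z.1 z.2)
  choose a ha using hd
  choose a' ha' using fun z => Ideal.Quotient.mk_surjective (a z)
  refine ⟨fun i => ∑ t, a' (i, t) • MvPowerSeries.pderiv k t, fun h => ?_⟩
  let δ : L := algebraMap _ L (d : MvPowerSeries (Fin r) k ⧸ p)
  have hev : ((Matrix.of fun i j => (∑ t, a' (i, t) • MvPowerSeries.pderiv k t :
      Derivation k (MvPowerSeries (Fin r) k) (MvPowerSeries (Fin r) k)) (f j)).map (ev p L)) =
      δ • (1 : Matrix (Fin m) (Fin m) L) := by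
    ext i j
    rw [Matrix.map_apply, Matrix.of_apply, ← Derivation.coeFnAddMonoidHom_apply, map_sum, Finset.sum_apply, map_sum,
      Matrix.smul_apply, Matrix.one_apply, ← hR0 i j, Finset.smul_sum]
    refine Finset.sum_congr rfl fun t _ => ?_
    show ev p L (a' (i, t) * MvPowerSeries.pderiv k t (f j)) = δ * _
    rw [map_mul, ← mul_assoc]
    congr 1
    show algebraMap _ L (Ideal.Quotient.mk p (a' (i, t))) = _
    rw [ha', ha (i, t), Algebra.smul_def]
  have h1 : ev p L (Matrix.det (Matrix.of fun i j => (∑ t, a' (i, t) • MvPowerSeries.pderiv k t :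
      Derivation k (MvPowerSeries (Fin r) k) (MvPowerSeries (Fin r) k)) (f j))) = δ ^ m := by
    rw [RingHom.map_det, RingHom.mapMatrix_apply, hev, Matrix.det_smul, Matrix.det_one, mul_one, Fintype.card_fin]
  rw [ev_eq_zero p L h] at h1
  exact (pow_ne_zero m (IsFractionRing.to_map_ne_zero_of_mem_nonZeroDivisors d.2)) h1.symm

variable (q : Ideal (MvPowerSeries (Fin r) k)) (hqp : q ≤ p) [(p.map (Ideal.Quotient.mk q)).IsPrime]
variable (s : ℕ) [Algebra (MvPowerSeries (Fin s) k) (MvPowerSeries (Fin r) k ⧸ p)]
  [IsScalarTower k (MvPowerSeries (Fin s) k) (MvPowerSeries (Fin r) k ⧸ p)]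
  [Module.Finite (MvPowerSeries (Fin s) k) (MvPowerSeries (Fin r) k ⧸ p)]
  (L' : Type u) [Field L'] [Algebra (MvPowerSeries (Fin s) k) L']
  [IsFractionRing (MvPowerSeries (Fin s) k) L'] [Algebra L' L] [Algebra (MvPowerSeries (Fin s) k) L]
  [IsScalarTower (MvPowerSeries (Fin s) k) (MvPowerSeries (Fin r) k ⧸ p) L]
  [IsScalarTower (MvPowerSeries (Fin s) k) L' L] [Algebra.IsSeparable L' L]

include L L' s hqp in
/-- The residue field at `p` is geometrically reduced over `k`. -/
theorem isGeometricallyReduced_residueField :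
    Algebra.IsGeometricallyReduced k (ResidueField (Localization.AtPrime (p.map (Ideal.Quotient.mk q)))) := by
  refine isGeometricallyReduced_residueField_aux k s (MvPowerSeries (Fin r) k ⧸ p) L' L (MvPowerSeries (Fin r) k ⧸ q)
    (p.map (Ideal.Quotient.mk q)) (Ideal.Quotient.factorₐ k hqp) fun z => ?_
  obtain ⟨z, rfl⟩ := Ideal.Quotient.mk_surjective z
  rw [← Ideal.mem_comap, Ideal.comap_map_of_surjective' _ Ideal.Quotient.mk_surjective, Ideal.mk_ker,
    sup_eq_left.2 hqp, ← Ideal.Quotient.eq_zero_iff_mem]
  exact Iff.rfl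

include hqp L L' s in
/-- Nagata's criterion. -/
theorem tfae_criterion :
    [CAlgX.IsAdicFormallySmooth k (Localization.AtPrime (p.map (Ideal.Quotient.mk q)))
        (maximalIdeal (Localization.AtPrime (p.map (Ideal.Quotient.mk q)))),
     ∃ (m : ℕ) (D : Fin m → Derivation k (MvPowerSeries (Fin r) k) (MvPowerSeries (Fin r) k))
        (f : Fin m → MvPowerSeries (Fin r) k), (∀ i, f i ∈ q) ∧
        q.map (algebraMap (MvPowerSeries (Fin r) k) (Localization.AtPrime p)) =
          Ideal.span (Set.range fun i => algebraMap (MvPowerSeries (Fin r) k) (Localization.AtPrime p) (f i)) ∧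
        Matrix.det (Matrix.of fun i j => D i (f j)) ∉ p,
     IsRegularLocalRing (Localization.AtPrime (p.map (Ideal.Quotient.mk q)))].TFAE := by
  haveI := isRegularLocalRing_atPrime p
  tfae_have 1 → 3 := fun h => (Groth.Agent.S2471.result.1 h).1
  tfae_have 3 → 1 := fun h => by
    haveI := isGeometricallyReduced_residueField p L q hqp s L'
    exact Groth.Agent.S2471.result.2 ⟨h, Groth.Agent.S2453.injective_of_geomReduced k _⟩
  tfae_have 2 → 3 := by
    rintro ⟨m, D, f, hf, hgen, hdet⟩
    exact regular_of_grad p L q hqp f hf hgen (linearIndependent_of_det p L f D hdet)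
  tfae_have 3 → 2 := fun h => by
    obtain ⟨n, x, h1, h2, h3, h4, h5⟩ := exists_params (s := s) (L' := L') p L
    obtain ⟨m, f, hf, hgen, hli⟩ := exists_grad_generators p L q hqp ⟨n, x, h1, h2, h3, h4, h5⟩
    obtain ⟨D, hD⟩ := exists_derivations p L f hli
    exact ⟨m, D, f, hf, hgen, hD⟩
  tfae_finish

end GrothLib.NagataJac
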