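import Groth.Agent.Lib.CKaehler2.GeomFree2
import Groth.Agent.Lib.Dim.Ring
import Groth.Agent.Lib.RegLoc.Criteria

/-!
# Gradients at a prime of a power series ring with separable presentation

For a prime `p` of `P = k[[T₁, …, T_r]]` such that `P/p` is finite over some `k[[X₁, …, X_s]]`
with separable fraction field extension, the gradient map `p → L^r` (`L = Frac (P/p)`) sends a
regular system of parameters of `P_p` to independent vectors.
-/

universe u

open IsLocalRing

set_option linter.style.haveILetI false
set_option linter.unusedSectionVars false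

noncomputable section

namespace GrothLib.NagataJac

variable {k : Type u} [Field k] {r : ℕ} (p : Ideal (MvPowerSeries (Fin r) k))
  (L : Type u) [Field L] [Algebra (MvPowerSeries (Fin r) k ⧸ p) L]

/-- Evaluation at the generic point of `p`. -/
def ev : MvPowerSeries (Fin r) k →+* L :=
  (algebraMap (MvPowerSeries (Fin r) k ⧸ p) L).comp (Ideal.Quotient.mk p)

/-- The gradient at the generic point of `p`. -/
def grad (f : MvPowerSeries (Fin r) k) : Fin r → L := fun i => ev p L (MvPowerSeries.pderiv k i f)

theorem ev_eq_zero {f : MvPowerSeries (Fin r) k} (hf : f ∈ p) : ev p L f = 0 := by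
  show algebraMap _ L (Ideal.Quotient.mk p f) = 0
  rw [Ideal.Quotient.eq_zero_iff_mem.2 hf, map_zero]

theorem grad_zero : grad p L 0 = 0 := funext fun i => by simp [grad]

theorem grad_add (f g : MvPowerSeries (Fin r) k) : grad p L (f + g) = grad p L f + grad p L g :=
  funext fun i => by simp [grad]

theorem grad_sub (f g : MvPowerSeries (Fin r) k) : grad p L (f - g) = grad p L f - grad p L g :=
  funext fun i => by simp [grad]

theorem grad_mul (f g : MvPowerSeries (Fin r) k) :
    grad p L (f * g) = ev p L f • grad p L g + ev p L g • grad p L f :=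
  funext fun i => by simp [grad]

theorem grad_mul_of_mem (f : MvPowerSeries (Fin r) k) {g : MvPowerSeries (Fin r) k} (hg : g ∈ p) :
    grad p L (f * g) = ev p L f • grad p L g := by
  rw [grad_mul, ev_eq_zero p L hg, zero_smul, add_zero]

theorem grad_sum {ι : Type*} (s : Finset ι) (f : ι → MvPowerSeries (Fin r) k) :
    grad p L (∑ j ∈ s, f j) = ∑ j ∈ s, grad p L (f j) := by
  classical
  induction s using Finset.induction_on with
  | empty => simp [grad_zero]
  | insert a t ha ih => rw [Finset.sum_insert ha, Finset.sum_insert ha, grad_add, ih]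

theorem grad_X (j : Fin r) : grad p L (MvPowerSeries.X j) = Pi.single j 1 := funext fun i => by
  classical
  rcases eq_or_ne i j with rfl | h
  · simp [grad, MvPowerSeries.pderiv_X_self]
  · simp [grad, MvPowerSeries.pderiv_X_of_ne h.symm, h]

theorem grad_sq {f : MvPowerSeries (Fin r) k} (hf : f ∈ p ^ 2) : grad p L f = 0 := by
  rw [pow_two] at hf
  refine Submodule.mul_induction_on hf (fun a ha b hb => ?_) (fun a b ha hb => ?_)
  · rw [grad_mul, ev_eq_zero p L ha, ev_eq_zero p L hb, zero_smul, zero_smul, add_zero]
  · rw [grad_add, ha, hb, add_zero]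

theorem ev_ne_zero [p.IsPrime] [IsFractionRing (MvPowerSeries (Fin r) k ⧸ p) L]
    {f : MvPowerSeries (Fin r) k} (hf : f ∉ p) : ev p L f ≠ 0 := fun h =>
  hf (Ideal.Quotient.eq_zero_iff_mem.1 ((map_eq_zero_iff _ (IsFractionRing.injective _ L)).1 h))

/-- The span of the gradients of the elements of an ideal. -/
def gspan (I : Ideal (MvPowerSeries (Fin r) k)) : Submodule L (Fin r → L) :=
  Submodule.span L (grad p L '' (I : Set (MvPowerSeries (Fin r) k)))

variable [p.IsPrime] [IsFractionRing (MvPowerSeries (Fin r) k ⧸ p) L]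
variable {s : ℕ} [Algebra (MvPowerSeries (Fin s) k) (MvPowerSeries (Fin r) k ⧸ p)]
  [IsScalarTower k (MvPowerSeries (Fin s) k) (MvPowerSeries (Fin r) k ⧸ p)]
  [Module.Finite (MvPowerSeries (Fin s) k) (MvPowerSeries (Fin r) k ⧸ p)]

omit [IsFractionRing (MvPowerSeries (Fin r) k ⧸ p) L] in
/-- Elements of the subring have gradients in the span of those of `p` and of the coordinates. -/
theorem grad_mem_of_range (y : Fin s → MvPowerSeries (Fin r) k)
    (hy : ∀ j, Ideal.Quotient.mk p (y j) =
      algebraMap (MvPowerSeries (Fin s) k) (MvPowerSeries (Fin r) k ⧸ p) (MvPowerSeries.X j))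
    (c : MvPowerSeries (Fin s) k) (f : MvPowerSeries (Fin r) k)
    (hf : Ideal.Quotient.mk p f = algebraMap (MvPowerSeries (Fin s) k) _ c) :
    grad p L f ∈ gspan p L p ⊔ Submodule.span L (Set.range fun j => grad p L (y j)) := by
  classical
  let P := MvPowerSeries (Fin r) k
  let C := P ⧸ p
  let Ps := MvPowerSeries (Fin s) k
  let gc : P →ₗ[k] (Fin r → C) :=
    LinearMap.pi fun i => (Ideal.Quotient.mkₐ k p).toLinearMap ∘ₗ (MvPowerSeries.pderiv k i).toLinearMap
  have hgc : ∀ g i, gc g i = Ideal.Quotient.mk p (MvPowerSeries.pderiv k i g) := fun g i => rfl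
  let K : Submodule C (Fin r → C) :=
    Submodule.span C (gc '' (p : Set P) ∪ Set.range fun j => gc (y j))
  let N := (Fin r → C) ⧸ K
  let sec : C → P := Function.surjInv Ideal.Quotient.mk_surjective
  have hsec : ∀ a, Ideal.Quotient.mk p (sec a) = a := Function.surjInv_eq _
  have hwd : ∀ g g' : P, Ideal.Quotient.mk p g = Ideal.Quotient.mk p g' → K.mkQ (gc g) = K.mkQ (gc g') :=
    fun g g' h => by
      rw [← sub_eq_zero, ← map_sub, ← map_sub, Submodule.mkQ_apply, Submodule.Quotient.mk_eq_zero]
      exact Submodule.subset_span (Or.inl ⟨_, Ideal.Quotient.eq.1 h, rfl⟩)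
  let δl : C →ₗ[k] N :=
    { toFun := fun a => K.mkQ (gc (sec a))
      map_add' := fun a b => by
        rw [← map_add, ← map_add]
        exact hwd _ _ (by rw [map_add, hsec, hsec, hsec])
      map_smul' := fun t a => by
        have h1 : gc (t • sec a) = t • gc (sec a) := map_smul gc t (sec a)
        rw [RingHom.id_apply, hwd (sec (t • a)) (t • sec a) (by
          rw [hsec, ← Ideal.Quotient.mkₐ_eq_mk k, map_smul, Ideal.Quotient.mkₐ_eq_mk, hsec]), h1,
          LinearMap.map_smul_of_tower] }
  let δ : Derivation k C N := Derivation.mk' δl fun a b => by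
    show K.mkQ (gc (sec (a * b))) = a • K.mkQ (gc (sec b)) + b • K.mkQ (gc (sec a))
    have h1 : gc (sec a * sec b) = a • gc (sec b) + b • gc (sec a) := funext fun i => by
      simp only [hgc, Pi.add_apply, Pi.smul_apply, Derivation.leibniz, smul_eq_mul, map_add, map_mul, hsec]
    rw [hwd (sec (a * b)) (sec a * sec b) (by rw [map_mul, hsec, hsec, hsec]), h1, map_add, map_smul,
      map_smul]
  haveI : Module.Finite Ps N := Module.Finite.trans C N
  haveI : IsHausdorff (maximalIdeal Ps) N := inferInstance
  let D : Derivation k Ps N := δ.compAlgebraMap Ps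
  have hD : D = 0 := GrothLib.CKaehler2.derivation_eq_zero k D fun j => by
    show K.mkQ (gc (sec (algebraMap Ps C (MvPowerSeries.X j)))) = 0
    rw [hwd _ (y j) (by rw [hsec, hy]), Submodule.mkQ_apply, Submodule.Quotient.mk_eq_zero]
    exact Submodule.subset_span (Or.inr ⟨j, rfl⟩)
  have h0 : gc f ∈ K := by
    rw [← Submodule.Quotient.mk_eq_zero K, ← Submodule.mkQ_apply, hwd f (sec (algebraMap Ps C c))
      (by rw [hsec, hf])]
    exact Derivation.congr_fun hD c
  -- transport to `L`
  let toL : (Fin r → C) →ₗ[C] (Fin r → L) := LinearMap.pi fun i =>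
    (Algebra.linearMap C L).comp (LinearMap.proj i)
  have htoL : ∀ g, toL (gc g) = grad p L g := fun g => rfl
  have hle : K ≤ ((gspan p L p ⊔ Submodule.span L (Set.range fun j => grad p L (y j))).restrictScalars C).comap toL := by
    rw [Submodule.span_le]
    rintro _ (⟨g, hg, rfl⟩ | ⟨j, rfl⟩)
    · rw [SetLike.mem_coe, Submodule.mem_comap, Submodule.restrictScalars_mem, htoL]
      exact Submodule.mem_sup_left (Submodule.subset_span ⟨g, hg, rfl⟩)
    · rw [SetLike.mem_coe, Submodule.mem_comap, Submodule.restrictScalars_mem, htoL]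
      exact Submodule.mem_sup_right (Submodule.subset_span ⟨j, rfl⟩)
  exact htoL f ▸ hle h0

variable {L' : Type u} [Field L'] [Algebra (MvPowerSeries (Fin s) k) L']
  [IsFractionRing (MvPowerSeries (Fin s) k) L'] [Algebra L' L] [Algebra (MvPowerSeries (Fin s) k) L]
  [IsScalarTower (MvPowerSeries (Fin s) k) (MvPowerSeries (Fin r) k ⧸ p) L]
  [IsScalarTower (MvPowerSeries (Fin s) k) L' L] [Algebra.IsSeparable L' L]

include L' in
/-- With a separable presentation the gradients of `p` and of `s` elements span everything. -/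
theorem gspan_sup_eq_top :
    ∃ y : Fin s → MvPowerSeries (Fin r) k,
      gspan p L p ⊔ Submodule.span L (Set.range fun j => grad p L (y j)) = ⊤ := by
  classical
  let P := MvPowerSeries (Fin r) k
  let C := P ⧸ p
  let Ps := MvPowerSeries (Fin s) k
  choose y hy using fun j : Fin s => Ideal.Quotient.mk_surjective (I := p) (algebraMap Ps C (MvPowerSeries.X j))
  refine ⟨y, ?_⟩
  set V := gspan p L p ⊔ Submodule.span L (Set.range fun j => grad p L (y j)) with hV
  have hsub : ∀ (c : Ps) (f : P), Ideal.Quotient.mk p f = algebraMap Ps C c → grad p L f ∈ V :=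
    grad_mem_of_range p L y hy
  haveI : IsDomain Ps := NoZeroDivisors.to_isDomain _
  haveI : IsIntegrallyClosed Ps := GrothLib.RegLoc.isIntegrallyClosed_of_isRegularLocalRing Ps
  haveI : FaithfulSMul Ps L := (faithfulSMul_iff_algebraMap_injective Ps L).mpr (by
    rw [IsScalarTower.algebraMap_eq Ps L' L]
    exact (algebraMap L' L).injective.comp (IsFractionRing.injective Ps L'))
  haveI : FaithfulSMul Ps C := (faithfulSMul_iff_algebraMap_injective Ps C).mpr (fun a b h => by
    apply FaithfulSMul.algebraMap_injective Ps L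
    rw [IsScalarTower.algebraMap_apply Ps C L, IsScalarTower.algebraMap_apply Ps C L b, h])
  haveI : Module.IsTorsionFree Ps C := FaithfulSMul.to_isTorsionFree Ps C
  have hall : ∀ a : P, grad p L a ∈ V := fun a => by
    have hint : IsIntegral Ps (Ideal.Quotient.mk p a) := (Algebra.IsIntegral.of_finite Ps C).isIntegral _
    let Q := minpoly Ps (Ideal.Quotient.mk p a)
    have hmap := minpoly.isIntegrallyClosed_eq_field_fractions L' L hint
    have hsep : (Q.map (algebraMap Ps L')).Separable := by
      rw [← hmap]; exact Algebra.IsSeparable.isSeparable L' _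
    -- lift the coefficients
    let lft : Ps → P := fun c => Function.surjInv Ideal.Quotient.mk_surjective (algebraMap Ps C c)
    have hlft : ∀ c, Ideal.Quotient.mk p (lft c) = algebraMap Ps C c := fun c => Function.surjInv_eq _ _
    have hev : ∀ F : Polynomial Ps, Ideal.Quotient.mk p (∑ j ∈ Finset.range (F.natDegree + 1), lft (F.coeff j) * a ^ j) =
        Polynomial.aeval (Ideal.Quotient.mk p a) F := fun F => by
      rw [map_sum, Polynomial.aeval_eq_sum_range]
      exact Finset.sum_congr rfl fun j _ => by rw [map_mul, map_pow, hlft, Algebra.smul_def]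
    have hg : grad p L (∑ j ∈ Finset.range (Q.natDegree + 1), lft (Q.coeff j) * a ^ j) -
        algebraMap C L (Polynomial.aeval (Ideal.Quotient.mk p a) (Polynomial.derivative Q)) • grad p L a ∈ V := by
      have hpow : ∀ j : ℕ, grad p L (a ^ j) = ((j : L) * ev p L a ^ (j - 1)) • grad p L a := fun j => by
        funext i
        simp only [grad, Derivation.leibniz_pow, Pi.smul_apply, smul_eq_mul, map_mul, map_nsmul, map_pow, nsmul_eq_mul,
          map_natCast]
        ring
      have hder : algebraMap C L (Polynomial.aeval (Ideal.Quotient.mk p a) (Polynomial.derivative Q)) =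
          ∑ j ∈ Finset.range (Q.natDegree + 1), ev p L (lft (Q.coeff j)) * ((j : L) * ev p L a ^ (j - 1)) := by
        rw [Polynomial.derivative_apply, Polynomial.sum_over_range' _ (fun n => by simp) _ (Nat.lt_succ_self _),
          map_sum, map_sum]
        refine Finset.sum_congr rfl fun j _ => ?_
        simp only [ev, RingHom.comp_apply, hlft, map_mul, map_pow, Polynomial.aeval_C, Polynomial.aeval_X, map_natCast]
        ring
      rw [hder, Finset.sum_smul, grad_sum, ← Finset.sum_sub_distrib]
      refine Submodule.sum_mem _ fun j _ => ?_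
      rw [grad_mul, hpow, smul_smul, add_sub_cancel_left]
      exact V.smul_mem _ (hsub _ _ (hlft _))
    have h1 : (∑ j ∈ Finset.range (Q.natDegree + 1), lft (Q.coeff j) * a ^ j) ∈ p :=
      Ideal.Quotient.eq_zero_iff_mem.1 ((hev Q).trans (minpoly.aeval _ _))
    have h3 : grad p L (∑ j ∈ Finset.range (Q.natDegree + 1), lft (Q.coeff j) * a ^ j) ∈ V :=
      Submodule.mem_sup_left (Submodule.subset_span ⟨_, h1, rfl⟩)
    have h2 := V.sub_mem h3 hg
    rw [sub_sub_cancel] at h2
    refine (Submodule.smul_mem_iff V ?_).1 h2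
    intro h0
    refine hsep.aeval_derivative_ne_zero (x := algebraMap C L (Ideal.Quotient.mk p a)) ?_ ?_
    · rw [Polynomial.aeval_map_algebraMap, Polynomial.aeval_algebraMap_apply, minpoly.aeval, map_zero]
    · rw [Polynomial.derivative_map, Polynomial.aeval_map_algebraMap, Polynomial.aeval_algebraMap_apply]
      exact h0
  rw [eq_top_iff, ← (Pi.basisFun L (Fin r)).span_eq, Submodule.span_le]
  rintro _ ⟨j, rfl⟩
  rw [Pi.basisFun_apply, ← grad_X p L j]
  exact hall _

omit [IsScalarTower k (MvPowerSeries (Fin s) k) (MvPowerSeries (Fin r) k ⧸ p)] in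
include L L' in
/-- The dimension of `P/p`. -/
theorem ringKrullDim_quotient : ringKrullDim (MvPowerSeries (Fin r) k ⧸ p) = s := by
  rw [GrothLib.Dim.ringKrullDim_eq_of_isIntegral (R := MvPowerSeries (Fin s) k) (fun a b h => ?_),
    GrothLib.CKaehler2.ringKrullDim_powerSeries]
  refine IsFractionRing.injective (MvPowerSeries (Fin s) k) L' ((algebraMap L' L).injective ?_)
  rw [← IsScalarTower.algebraMap_apply, ← IsScalarTower.algebraMap_apply,
    IsScalarTower.algebraMap_apply _ (MvPowerSeries (Fin r) k ⧸ p) L,
    IsScalarTower.algebraMap_apply _ (MvPowerSeries (Fin r) k ⧸ p) L b, h]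

omit [IsFractionRing (MvPowerSeries (Fin r) k ⧸ p) L] in
/-- An element of `p` that lies in an ideal at `p` has a multiple in that ideal. -/
theorem exists_mul_mem (I : Ideal (MvPowerSeries (Fin r) k)) (f : MvPowerSeries (Fin r) k)
    (h : algebraMap _ (Localization.AtPrime p) f ∈ I.map (algebraMap _ (Localization.AtPrime p))) :
    ∃ t ∉ p, t * f ∈ I := by
  obtain ⟨t, ht, htf⟩ := (IsLocalization.algebraMap_mem_map_algebraMap_iff p.primeCompl _ _ _).1 h
  exact ⟨t, ht, htf⟩

omit [IsScalarTower k (MvPowerSeries (Fin s) k) (MvPowerSeries (Fin r) k ⧸ p)]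
  [Module.Finite (MvPowerSeries (Fin s) k) (MvPowerSeries (Fin r) k ⧸ p)] in
/-- Gradients of generators of `p P_p` span the gradients of `p`. -/
theorem gspan_le_of_generators {ι : Type*} [Fintype ι] (u : ι → MvPowerSeries (Fin r) k)
    (hup : ∀ i, u i ∈ p) (I : Ideal (MvPowerSeries (Fin r) k))
    (hI : I.map (algebraMap _ (Localization.AtPrime p)) ≤
      Ideal.span (Set.range fun i => algebraMap _ (Localization.AtPrime p) (u i))) :
    gspan p L I ≤ Submodule.span L (Set.range fun i => grad p L (u i)) := by
  rw [gspan, Submodule.span_le]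
  rintro _ ⟨f, hf, rfl⟩
  have h1 := hI (Ideal.mem_map_of_mem _ hf)
  rw [show (fun i => algebraMap _ (Localization.AtPrime p) (u i)) = algebraMap _ (Localization.AtPrime p) ∘ u from rfl,
    Set.range_comp, ← Ideal.map_span] at h1
  obtain ⟨t, ht, htf⟩ := exists_mul_mem p _ f h1
  obtain ⟨c, hc⟩ := Ideal.mem_span_range_iff_exists_fun.1 htf
  have hfp : f ∈ p := (Ideal.IsPrime.mem_or_mem ‹_› (show t * f ∈ p from
    hc ▸ Submodule.sum_mem _ fun i _ => Ideal.mul_mem_left _ _ (hup i))).resolve_left ht
  have h2 := congrArg (grad p L) hc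
  rw [grad_sum, grad_mul_of_mem p L t hfp] at h2
  refine (Submodule.smul_mem_iff _ (ev_ne_zero p L ht)).1 ?_
  rw [← h2]
  refine Submodule.sum_mem _ fun i _ => ?_
  rw [grad_mul_of_mem p L _ (hup i)]
  exact Submodule.smul_mem _ _ (Submodule.subset_span ⟨i, rfl⟩)

include L' s in
/-- A regular system of parameters of `P_p` has independent gradients. -/
theorem exists_params [IsRegularLocalRing (Localization.AtPrime p)] :
    ∃ (h : ℕ) (x : Fin h → MvPowerSeries (Fin r) k), ringKrullDim (Localization.AtPrime p) = h ∧
      (∀ i, x i ∈ p) ∧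
      Ideal.span (Set.range fun i => algebraMap _ (Localization.AtPrime p) (x i)) = maximalIdeal _ ∧
      LinearIndependent L (fun i => grad p L (x i)) ∧
      gspan p L p = Submodule.span L (Set.range fun i => grad p L (x i)) := by
  obtain ⟨h, x, hdim, hxp, hxspan⟩ := GrothLib.CKaehler2.exists_regular_params _ p
  have hWle : gspan p L p ≤ Submodule.span L (Set.range fun i => grad p L (x i)) :=
    gspan_le_of_generators p L x hxp p (by rw [hxspan, ← Localization.AtPrime.map_eq_maximalIdeal])
  have hWge : Submodule.span L (Set.range fun i => grad p L (x i)) ≤ gspan p L p :=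
    Submodule.span_le.2 (by rintro _ ⟨i, rfl⟩; exact Submodule.subset_span ⟨_, hxp i, rfl⟩)
  refine ⟨h, x, hdim, hxp, hxspan, ?_, le_antisymm hWle hWge⟩
  obtain ⟨y, hy⟩ := gspan_sup_eq_top (L' := L') p L (s := s)
  have hle : h + s ≤ r := by
    have h1 := GrothLib.CKaehler2.dim_add_dim_le (MvPowerSeries (Fin r) k) p ⊥ (by simp)
    rw [hdim, ringKrullDim_quotient (L' := L') p L (s := s),
      ringKrullDim_eq_of_ringEquiv (RingEquiv.quotientBot _), GrothLib.CKaehler2.ringKrullDim_powerSeries] at h1
    exact_mod_cast h1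
  rw [linearIndependent_iff_card_le_finrank_span, Fintype.card_fin]
  have h2 : r ≤ Module.finrank L (gspan p L p) +
      Module.finrank L (Submodule.span L (Set.range fun j => grad p L (y j))) := by
    have := Submodule.finrank_add_le_finrank_add_finrank (gspan p L p)
      (Submodule.span L (Set.range fun j => grad p L (y j)))
    rw [hy, finrank_top, Module.finrank_fin_fun] at this
    exact this
  have h3 : Module.finrank L (Submodule.span L (Set.range fun j => grad p L (y j))) ≤ s :=
    (finrank_range_le_card _).trans (Fintype.card_fin s).le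
  rw [le_antisymm hWle hWge] at h2
  show h ≤ Module.finrank L (Submodule.span L (Set.range fun i => grad p L (x i)))
  omega

end GrothLib.NagataJac
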