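import Groth.Agent.Lib.NagataJac.Grad
import Groth.Agent.Lib.GeomRed2.Basic
import Groth.Agent.Lib.Serre.Partial
import Groth.Agent.S2471
import Groth.Agent.S2453

/-!
# Nagata's Jacobian criterion for quotients of power series rings
-/

universe u

open IsLocalRing
open scoped TensorProduct

set_option linter.style.haveILetI false
set_option linter.unusedSectionVars false

noncomputable section

namespace GrothLib.NagataJac

/-- The local ring of a quotient is a quotient of the local ring. -/
theorem exists_surjective_atPrime {B : Type u} [CommRing B] (J q : Ideal B) [q.IsPrime] (hJq : J ≤ q)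
    [(q.map (Ideal.Quotient.mk J)).IsPrime] :
    ∃ g : Localization.AtPrime q →+* Localization.AtPrime (q.map (Ideal.Quotient.mk J)),
      Function.Surjective g ∧ RingHom.ker g = J.map (algebraMap B _) ∧
        ∀ a, g (algebraMap B _ a) = algebraMap _ _ (Ideal.Quotient.mk J a) := by
  let p := q.map (Ideal.Quotient.mk J)
  have hcomap : p.comap (Ideal.Quotient.mk J) = q := by
    rw [Ideal.comap_map_of_surjective' _ Ideal.Quotient.mk_surjective, Ideal.mk_ker, sup_eq_left]
    exact hJq
  have hq : ∀ b, Ideal.Quotient.mk J b ∈ p ↔ b ∈ q := fun b => by rw [← Ideal.mem_comap, hcomap]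
  let g := Localization.localRingHom q p (Ideal.Quotient.mk J) hcomap.symm
  refine ⟨g, fun z => ?_, le_antisymm (fun z hz => ?_) (Ideal.map_le_iff_le_comap.2 fun x hx => ?_),
    fun a => Localization.localRingHom_to_map q p _ hcomap.symm a⟩
  · obtain ⟨a, ⟨s, hs⟩, rfl⟩ := IsLocalization.exists_mk'_eq p.primeCompl z
    obtain ⟨a, rfl⟩ := Ideal.Quotient.mk_surjective a
    obtain ⟨s, rfl⟩ := Ideal.Quotient.mk_surjective s
    exact ⟨IsLocalization.mk' _ a (⟨s, fun h => hs ((hq s).2 h)⟩ : q.primeCompl),
      Localization.localRingHom_mk' q p _ hcomap.symm _ _⟩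
  · obtain ⟨a, ⟨s, hs⟩, rfl⟩ := IsLocalization.exists_mk'_eq q.primeCompl z
    rw [RingHom.mem_ker, Localization.localRingHom_mk', IsLocalization.mk'_eq_zero_iff] at hz
    obtain ⟨⟨u, hu⟩, hu'⟩ := hz
    obtain ⟨u, rfl⟩ := Ideal.Quotient.mk_surjective u
    rw [← map_mul, Ideal.Quotient.eq_zero_iff_mem] at hu'
    rw [IsLocalization.mk'_mem_map_algebraMap_iff]
    exact ⟨u, fun h => hu ((hq u).2 h), hu'⟩
  · rw [Ideal.mem_comap, RingHom.mem_ker, Localization.localRingHom_to_map, Ideal.Quotient.eq_zero_iff_mem.2 hx,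
      map_zero]

/-- A proper quotient of a local domain has smaller dimension. -/
theorem eq_bot_of_dim_le {R : Type u} [CommRing R] [IsLocalRing R] [IsNoetherianRing R] [IsDomain R]
    (I : Ideal R) (hI : I ≠ ⊤) (h : ringKrullDim R ≤ ringKrullDim (R ⧸ I)) : I = ⊥ := by
  by_contra hne
  obtain ⟨x, hx, hx0⟩ := Submodule.exists_mem_ne_zero_of_ne_bot hne
  have h1 := ringKrullDim_quotient_succ_le_of_nonZeroDivisor (mem_nonZeroDivisors_of_ne_zero hx0)
  have h2 : ringKrullDim (R ⧸ I) ≤ ringKrullDim (R ⧸ Ideal.span {x}) :=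
    ringKrullDim_le_of_surjective (Ideal.Quotient.factor ((Ideal.span_singleton_le_iff_mem I).2 hx))
      (Ideal.Quotient.factor_surjective _)
  obtain ⟨n, hn⟩ : ∃ n : ℕ, ringKrullDim R = n := GrothLib.CKaehler2.exists_dim R
  haveI : IsLocalRing (R ⧸ Ideal.span {x}) :=
    haveI : Nontrivial (R ⧸ Ideal.span {x}) := Ideal.Quotient.nontrivial_iff.2
      (ne_top_of_le_ne_top hI ((Ideal.span_singleton_le_iff_mem I).2 hx))
    IsLocalRing.of_surjective' (Ideal.Quotient.mk _) Ideal.Quotient.mk_surjective
  obtain ⟨m, hm⟩ : ∃ m : ℕ, ringKrullDim (R ⧸ Ideal.span {x}) = m := GrothLib.CKaehler2.exists_dim _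
  rw [hn, hm] at h1
  have h3 := h.trans h2
  rw [hn, hm] at h3
  have h1' : m + 1 ≤ n := by exact_mod_cast h1
  have h3' : n ≤ m := by exact_mod_cast h3
  omega

/-- An ideal between `J` and the maximal ideal equals `J` when the dimension does not drop. -/
theorem le_of_dim_le {R : Type u} [CommRing R] [IsLocalRing R] [IsNoetherianRing R] (J Q : Ideal R)
    [IsRegularLocalRing (R ⧸ J)] (hJQ : J ≤ Q) (hQ : Q ≤ maximalIdeal R) {ι : Type*} (u : ι → R)
    (hu : Ideal.span (Set.range u) = maximalIdeal R) (T : Finset ι) (huJ : ∀ i, i ∉ T → u i ∈ J)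
    (hdim : (T.card : WithBot ℕ∞) ≤ ringKrullDim (R ⧸ Q)) : Q ≤ J := by
  let π := Ideal.Quotient.mk J
  haveI : IsDomain (R ⧸ J) := GrothLib.CMFree.isDomain_of_isRegularLocalRing (R ⧸ J)
  have hm : maximalIdeal (R ⧸ J) = Ideal.span ((fun v => π (u v)) '' (T : Set ι)) := by
    refine le_antisymm ?_ (Ideal.span_le.2 ?_)
    · rw [← IsLocalRing.map_maximalIdeal_of_surjective π Ideal.Quotient.mk_surjective, ← hu, Ideal.map_span,
        Ideal.span_le]
      rintro _ ⟨_, ⟨i, rfl⟩, rfl⟩
      by_cases hv : i ∈ T
      · exact Ideal.subset_span ⟨i, hv, rfl⟩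
      · rw [SetLike.mem_coe, Ideal.Quotient.eq_zero_iff_mem.2 (huJ _ hv)]
        exact Submodule.zero_mem _
    · rintro _ ⟨v, -, rfl⟩
      rw [SetLike.mem_coe, ← IsLocalRing.map_maximalIdeal_of_surjective π Ideal.Quotient.mk_surjective]
      exact Ideal.mem_map_of_mem π (hu ▸ Ideal.subset_span ⟨v, rfl⟩)
  have h1 : ringKrullDim (R ⧸ J) ≤ T.card := by
    rw [← IsRegularLocalRing.spanFinrank_maximalIdeal (R := R ⧸ J), hm]
    refine Nat.cast_le.2 ((Submodule.spanFinrank_span_le_ncard_of_finite (T.finite_toSet.image _)).trans ?_)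
    exact (Set.ncard_image_le T.finite_toSet).trans (Set.ncard_coe_finset T).le
  have hKtop : Q.map π ≠ ⊤ := ne_top_of_le_ne_top (maximalIdeal.isMaximal _).ne_top
    ((Ideal.map_mono hQ).trans (IsLocalRing.map_maximalIdeal_of_surjective π Ideal.Quotient.mk_surjective).le)
  have hKbot := eq_bot_of_dim_le (Q.map π) hKtop (by
    rw [ringKrullDim_eq_of_ringEquiv (DoubleQuot.quotQuotEquivQuotOfLE hJQ)]
    exact h1.trans hdim)
  intro z hz
  have h2 : π z ∈ Q.map π := Ideal.mem_map_of_mem π hz
  rw [hKbot, Ideal.mem_bot] at h2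
  exact Ideal.Quotient.eq_zero_iff_mem.1 h2

variable {k : Type u} [Field k] {r : ℕ} (p : Ideal (MvPowerSeries (Fin r) k)) [p.IsPrime]
  (L : Type u) [Field L] [Algebra (MvPowerSeries (Fin r) k ⧸ p) L]
  [IsFractionRing (MvPowerSeries (Fin r) k ⧸ p) L]

/-- The data produced by `exists_params`. -/
structure Params where
  /-- the dimension -/
  h : ℕ
  /-- the parameters -/
  x : Fin h → MvPowerSeries (Fin r) k
  dim : ringKrullDim (Localization.AtPrime p) = h
  mem : ∀ i, x i ∈ p
  span : Ideal.span (Set.range fun i => algebraMap _ (Localization.AtPrime p) (x i)) = maximalIdeal _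
  indep : LinearIndependent L (fun i => grad p L (x i))
  gspan_eq : gspan p L p = Submodule.span L (Set.range fun i => grad p L (x i))

omit [IsFractionRing (MvPowerSeries (Fin r) k ⧸ p) L] in
/-- Elements with independent gradients are independent modulo the square of the maximal ideal. -/
theorem indepSq_of_grad [IsFractionRing (MvPowerSeries (Fin r) k ⧸ p) L] {m : ℕ}
    (f : Fin m → MvPowerSeries (Fin r) k) (hf : ∀ i, f i ∈ p)
    (hli : LinearIndependent L (fun i => grad p L (f i))) :
    GrothLib.Serre.IndepSq fun i => algebraMap _ (Localization.AtPrime p) (f i) := by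
  intro c hc i
  obtain ⟨u, hu⟩ := IsLocalization.exist_integer_multiples_of_finite p.primeCompl c
  choose a ha using hu
  have h1 : algebraMap _ (Localization.AtPrime p) (∑ j, a j * f j) ∈ (p ^ 2).map (algebraMap _ (Localization.AtPrime p)) := by
    rw [Ideal.map_pow, Localization.AtPrime.map_eq_maximalIdeal, map_sum]
    have h2 := Ideal.mul_mem_left _ (algebraMap _ (Localization.AtPrime p) (u : MvPowerSeries (Fin r) k)) hc
    rw [Finset.mul_sum] at h2
    convert h2 using 1
    refine Finset.sum_congr rfl fun j _ => ?_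
    rw [map_mul, ← mul_assoc]
    congr 1
    exact (ha j).trans (Algebra.smul_def _ _)
  obtain ⟨t, ht, htp⟩ := exists_mul_mem p _ _ h1
  have h3 := grad_sq p L htp
  rw [grad_mul_of_mem p L t (Submodule.sum_mem _ fun j _ => Ideal.mul_mem_left _ _ (hf j)), grad_sum] at h3
  simp only [grad_mul_of_mem p L _ (hf _), Finset.smul_sum, smul_smul] at h3
  have h4 := Fintype.linearIndependent_iff.1 hli (fun j => ev p L t * ev p L (a j)) h3 i
  have h5 : a i ∈ p := by
    by_contra h6
    exact mul_ne_zero (ev_ne_zero p L ht) (ev_ne_zero p L h6) h4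
  have h7 : algebraMap _ (Localization.AtPrime p) (u : MvPowerSeries (Fin r) k) * c i ∈ maximalIdeal (Localization.AtPrime p) := by
    rw [← Algebra.smul_def, ← Submonoid.smul_def]
    exact ((ha i).trans rfl) ▸ (IsLocalization.AtPrime.to_map_mem_maximal_iff _ p _).2 h5
  exact (Ideal.unit_mul_mem_iff_mem _ (IsLocalization.map_units _ u)).1 h7

variable [IsRegularLocalRing (Localization.AtPrime p)]

/-- Elements of `p` with independent gradients cut out a regular local ring at `p`. -/
theorem regular_quotient_of_grad {m : ℕ}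
    (f : Fin m → MvPowerSeries (Fin r) k) (hf : ∀ i, f i ∈ p)
    (hli : LinearIndependent L (fun i => grad p L (f i))) :
    IsRegularLocalRing (Localization.AtPrime p ⧸
      Ideal.span (Set.range fun i => algebraMap _ (Localization.AtPrime p) (f i))) :=
  (GrothLib.Serre.isRegularLocalRing_quotient_of_indepSq m _ _
    (fun i => (IsLocalization.AtPrime.to_map_mem_maximal_iff _ p _).2 (hf i)) (indepSq_of_grad p L f hf hli)).1

/-- Elements with independent gradients, as many as the dimension, generate the maximal ideal. -/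
theorem span_eq_maximal (D : Params p L) (u : Fin D.h → MvPowerSeries (Fin r) k) (hu : ∀ i, u i ∈ p)
    (hli : LinearIndependent L (fun i => grad p L (u i))) :
    Ideal.span (Set.range fun i => algebraMap _ (Localization.AtPrime p) (u i)) = maximalIdeal _ := by
  set R := Localization.AtPrime p
  refine le_antisymm (Ideal.span_le.2 ?_) ?_
  · rintro _ ⟨i, rfl⟩
    exact (IsLocalization.AtPrime.to_map_mem_maximal_iff _ p _).2 (hu i)
  have hx : ∀ i, algebraMap _ R (u i) ∈ Ideal.span (Set.range fun j => algebraMap _ R (D.x j)) := fun i => by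
    rw [D.span]; exact (IsLocalization.AtPrime.to_map_mem_maximal_iff _ p _).2 (hu i)
  choose M hM using fun i => Ideal.mem_span_range_iff_exists_fun.1 (hx i)
  let M' : Matrix (Fin D.h) (Fin D.h) R := Matrix.of M
  have hdet : IsUnit M'.det := by
    by_contra hd
    obtain ⟨v, hv0, hv⟩ : ∃ v : Fin D.h → ResidueField R, v ≠ 0 ∧ Matrix.vecMul v (M'.map (residue R)) = 0 := by
      rw [Matrix.exists_vecMul_eq_zero_iff, ← RingHom.mapMatrix_apply, ← RingHom.map_det, residue_eq_zero_iff]
      exact hd
    choose c hc using fun i => residue_surjective (v i)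
    have h2 : ∑ i, c i * algebraMap _ R (u i) ∈ maximalIdeal R ^ 2 := by
      have e1 : ∑ i, c i * algebraMap _ R (u i) = ∑ j, (∑ i, c i * M i j) * algebraMap _ R (D.x j) := by
        rw [show (∑ j, (∑ i, c i * M i j) * algebraMap _ R (D.x j)) = ∑ j, ∑ i, c i * M i j * algebraMap _ R (D.x j) from
          Finset.sum_congr rfl fun j _ => Finset.sum_mul _ _ _, Finset.sum_comm]
        refine Finset.sum_congr rfl fun i _ => ?_
        rw [← hM i, Finset.mul_sum]
        exact Finset.sum_congr rfl fun j _ => by ring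
      rw [e1, pow_two]
      refine Submodule.sum_mem _ fun j _ => Ideal.mul_mem_mul ?_ ((IsLocalization.AtPrime.to_map_mem_maximal_iff _ p _).2 (D.mem j))
      rw [← residue_eq_zero_iff, map_sum]
      have := congrFun hv j
      simpa [Matrix.vecMul, dotProduct, map_mul, hc, M'] using this
    refine hv0 (funext fun i => ?_)
    rw [← hc i]
    exact (residue_eq_zero_iff _).2 (indepSq_of_grad p L u hu hli c h2 i)
  rw [← D.span, Ideal.span_le]
  rintro _ ⟨j, rfl⟩
  refine Ideal.mem_span_range_iff_exists_fun.2 ⟨fun i => M'⁻¹ j i, ?_⟩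
  have h1 : M'.mulVec (fun j => algebraMap _ R (D.x j)) = fun i => algebraMap _ R (u i) := funext fun i => hM i
  have h3 := congrFun (congrArg (Matrix.mulVec M'⁻¹) h1) j
  rw [Matrix.mulVec_mulVec, Matrix.nonsing_inv_mul M' hdet, Matrix.one_mulVec] at h3
  exact h3.symm

variable (q : Ideal (MvPowerSeries (Fin r) k)) (hqp : q ≤ p) [(p.map (Ideal.Quotient.mk q)).IsPrime]

include hqp L in
/-- Generators of `q` at `p` with independent gradients give a regular local ring. -/
theorem regular_of_grad {m : ℕ} (f : Fin m → MvPowerSeries (Fin r) k) (hf : ∀ i, f i ∈ q)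
    (hgen : q.map (algebraMap _ (Localization.AtPrime p)) =
      Ideal.span (Set.range fun i => algebraMap _ (Localization.AtPrime p) (f i)))
    (hli : LinearIndependent L (fun i => grad p L (f i))) :
    IsRegularLocalRing (Localization.AtPrime (p.map (Ideal.Quotient.mk q))) := by
  obtain ⟨g, hg, hker, -⟩ := exists_surjective_atPrime q p hqp
  haveI := regular_quotient_of_grad p L f (fun i => hqp (hf i)) hli
  exact IsRegularLocalRing.of_ringEquiv (R := Localization.AtPrime p ⧸
      Ideal.span (Set.range fun i => algebraMap _ (Localization.AtPrime p) (f i)))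
    ((Ideal.quotEquivOfEq (hker.trans hgen).symm).trans (RingHom.quotientKerEquivOfSurjective hg))

include hqp in
/-- At a regular point of the quotient, `q` is generated by elements with independent gradients. -/
theorem exists_grad_generators (D : Params p L)
    [IsRegularLocalRing (Localization.AtPrime (p.map (Ideal.Quotient.mk q)))] :
    ∃ (m : ℕ) (f : Fin m → MvPowerSeries (Fin r) k), (∀ i, f i ∈ q) ∧
      q.map (algebraMap _ (Localization.AtPrime p)) =
        Ideal.span (Set.range fun i => algebraMap _ (Localization.AtPrime p) (f i)) ∧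
      LinearIndependent L (fun i => grad p L (f i)) := by
  classical
  set R := Localization.AtPrime p
  set pb := p.map (Ideal.Quotient.mk q)
  have hcomap : ∀ b, Ideal.Quotient.mk q b ∈ pb ↔ b ∈ p := fun b => by
    rw [← Ideal.mem_comap, Ideal.comap_map_of_surjective' _ Ideal.Quotient.mk_surjective, Ideal.mk_ker, sup_eq_left.2 hqp]
  obtain ⟨g, hg, hker, hga⟩ := exists_surjective_atPrime q p hqp
  -- a basis of the span of the gradients of `q`
  obtain ⟨b, hbsub, hbspan, hbli⟩ := exists_linearIndependent L (grad p L '' (q : Set (MvPowerSeries (Fin r) k)))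
  haveI : Finite b := hbli.finite
  haveI := Fintype.ofFinite b
  obtain ⟨m, ⟨e⟩⟩ : ∃ m, Nonempty (Fin m ≃ b) := ⟨_, ⟨(Fintype.equivFin b).symm⟩⟩
  choose f₀ hf₀ hf₀' using fun i : b => hbsub i.2
  let f : Fin m → MvPowerSeries (Fin r) k := fun i => f₀ (e i)
  have hfq : ∀ i, f i ∈ q := fun i => hf₀ _
  have hfli : LinearIndependent L (fun i => grad p L (f i)) := by
    rw [show (fun i => grad p L (f i)) = (fun x : b => (x : Fin r → L)) ∘ e from funext fun i => hf₀' _]
    exact hbli.comp _ e.injective
  have hfspan : Submodule.span L (Set.range fun i => grad p L (f i)) = gspan p L q := by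
    rw [show (fun i => grad p L (f i)) = (fun x : b => (x : Fin r → L)) ∘ e from funext fun i => hf₀' _,
      Set.range_comp, e.range_eq_univ, Set.image_univ, Subtype.range_coe_subtype]
    exact hbspan
  refine ⟨m, f, hfq, ?_, hfli⟩
  -- generators of the maximal ideal of the quotient
  obtain ⟨β, z, hβ, hzp, hzspan⟩ := GrothLib.CKaehler2.exists_regular_params _ pb
  choose z' hz' using fun i => Ideal.Quotient.mk_surjective (z i)
  have hhle : D.h ≤ β + m := by
    have h1 : p.map (algebraMap _ R) ≤ Ideal.span (Set.range fun i => algebraMap _ R (z' i)) ⊔ q.map (algebraMap _ R) := by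
      rw [← hker, RingHom.ker_eq_comap_bot, ← Ideal.comap_map_of_surjective g hg, ← Ideal.map_le_iff_le_comap,
        Ideal.map_map, Ideal.map_span, ← Set.range_comp, Ideal.map_le_iff_le_comap]
      intro a ha
      rw [Ideal.mem_comap]
      rw [RingHom.comp_apply, hga, show (g ∘ fun i => algebraMap _ R (z' i)) = fun i => algebraMap _ (Localization.AtPrime pb) (z i) from
        funext fun i => by rw [Function.comp_apply, hga, hz'], hzspan]
      exact (IsLocalization.AtPrime.to_map_mem_maximal_iff _ pb _).2 ((hcomap a).2 ha)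
    have h2 : gspan p L p ≤ Submodule.span L (Set.range fun i => grad p L (z' i)) ⊔ gspan p L q := by
      rw [gspan, Submodule.span_le]
      rintro _ ⟨a, ha, rfl⟩
      have h3 := h1 (Ideal.mem_map_of_mem _ ha)
      rw [show (fun i => algebraMap _ R (z' i)) = algebraMap _ R ∘ z' from rfl, Set.range_comp, ← Ideal.map_span,
        ← Ideal.map_sup] at h3
      obtain ⟨t, ht, hta⟩ := exists_mul_mem p _ a h3
      obtain ⟨v, hv, w, hw, hvw⟩ := Submodule.mem_sup.1 hta
      obtain ⟨c, rfl⟩ := Ideal.mem_span_range_iff_exists_fun.1 hv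
      have h4 := congrArg (grad p L) hvw
      rw [grad_add, grad_sum, grad_mul_of_mem p L t ha] at h4
      refine (Submodule.smul_mem_iff _ (ev_ne_zero p L ht)).1 ?_
      rw [← h4]
      refine Submodule.add_mem _ (Submodule.sum_mem _ fun i _ => ?_)
        (Submodule.mem_sup_right (Submodule.subset_span ⟨w, hw, rfl⟩))
      rw [grad_mul_of_mem p L _ ((hcomap (z' i)).1 (hz' i ▸ hzp i))]
      exact Submodule.mem_sup_left (Submodule.smul_mem _ _ (Submodule.subset_span ⟨i, rfl⟩))
    have h5 := Submodule.finrank_mono h2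
    rw [D.gspan_eq, finrank_span_eq_card D.indep, Fintype.card_fin] at h5
    refine h5.trans ((Submodule.finrank_add_le_finrank_add_finrank _ _).trans (add_le_add ?_ (le_of_eq ?_)))
    · exact (finrank_range_le_card _).trans (Fintype.card_fin β).le
    · rw [← hfspan, finrank_span_eq_card hfli, Fintype.card_fin]
  -- the quotient by the `f`'s
  set J := Ideal.span (Set.range fun i => algebraMap _ R (f i)) with hJ
  haveI hreg : IsRegularLocalRing (R ⧸ J) := regular_quotient_of_grad p L f (fun i => hqp (hfq i)) hfli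
  have hJq : J ≤ q.map (algebraMap _ R) :=
    Ideal.span_le.2 (by rintro _ ⟨i, rfl⟩; exact Ideal.mem_map_of_mem _ (hfq i))
  -- extend to a system of parameters
  set F : Set (Fin r → L) := Set.range fun i => grad p L (f i)
  obtain ⟨B, hB1, hB2, hB3, hB4⟩ := exists_linearIndepOn_id_extension (hfli.linearIndepOn_id)
    (Set.subset_union_left : F ⊆ F ∪ Set.range (fun i => grad p L (D.x i)))
  have hBspan : Submodule.span L B = gspan p L p := by
    refine le_antisymm (Submodule.span_le.2 fun v hv => ?_) ?_
    · rcases hB1 hv with ⟨i, rfl⟩ | ⟨i, rfl⟩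
      · exact Submodule.subset_span ⟨_, hqp (hfq i), rfl⟩
      · exact Submodule.subset_span ⟨_, D.mem i, rfl⟩
    · rw [D.gspan_eq, Submodule.span_le]
      exact Set.subset_union_right.trans hB3
  haveI : Finite B := hB4.linearIndependent.finite
  haveI := Fintype.ofFinite B
  have hBcard : Fintype.card B = D.h := by
    have h1 := finrank_span_eq_card hB4.linearIndependent
    rw [show Set.range (fun x : B => id (x : Fin r → L)) = B from Subtype.range_coe, hBspan, D.gspan_eq,
      finrank_span_eq_card D.indep, Fintype.card_fin] at h1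
    exact h1.symm
  have hpick : ∀ v : B, ∃ a, a ∈ p ∧ grad p L a = (v : Fin r → L) ∧ ((v : Fin r → L) ∈ F → algebraMap _ R a ∈ J) := by
    intro v
    by_cases hv : (v : Fin r → L) ∈ F
    · obtain ⟨i, hi⟩ := hv
      exact ⟨f i, hqp (hfq i), hi, fun _ => Ideal.subset_span ⟨i, rfl⟩⟩
    · obtain ⟨i, hi⟩ := (hB1 v.2).resolve_left hv
      exact ⟨D.x i, D.mem i, hi, fun h => absurd h hv⟩
  choose u hup hug huJ using hpick
  let e' : Fin D.h ≃ B := (Fintype.equivFinOfCardEq hBcard).symm
  have hmax := span_eq_maximal p L D (u ∘ e') (fun i => hup _) (by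
    rw [show (fun i => grad p L ((u ∘ e') i)) = (fun x : B => (x : Fin r → L)) ∘ e' from funext fun i => hug _]
    exact hB4.linearIndependent.comp _ e'.injective)
  let T : Finset B := Finset.univ.filter fun v => (v : Fin r → L) ∉ F
  have hTcard : T.card + m = D.h := by
    rw [← hBcard, ← Finset.card_univ (α := B),
      ← Finset.card_filter_add_card_filter_not (s := (Finset.univ : Finset B)) (fun v : B => (v : Fin r → L) ∉ F)]
    congr 1
    let φ : Fin m → B := fun i => ⟨grad p L (f i), hB2 ⟨i, rfl⟩⟩
    have hφ : Function.Injective φ := fun a b h => hfli.injective (congrArg Subtype.val h)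
    have h3 : (Finset.univ.filter fun v : B => ¬ (v : Fin r → L) ∉ F) = Finset.univ.image φ := by
      ext v
      simp only [Finset.mem_filter, Finset.mem_univ, true_and, not_not, Finset.mem_image]
      exact ⟨fun ⟨i, hi⟩ => ⟨i, Subtype.ext hi⟩, fun ⟨i, hi⟩ => ⟨i, congrArg Subtype.val hi⟩⟩
    rw [h3, Finset.card_image_of_injective _ hφ, Finset.card_univ, Fintype.card_fin]
  have hrange : Ideal.span (Set.range fun v : B => algebraMap _ R (u v)) = maximalIdeal R := by
    rw [← hmax]
    congr 1
    exact (e'.surjective.range_comp fun v : B => algebraMap _ R (u v)).symm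
  refine le_antisymm (le_of_dim_le J _ hJq ?_ _ hrange T (fun v hv => huJ v ?_) ?_) hJq
  · exact (Ideal.map_mono hqp).trans Localization.AtPrime.map_eq_maximalIdeal.le
  · simpa [T] using hv
  · rw [ringKrullDim_eq_of_ringEquiv ((Ideal.quotEquivOfEq hker.symm).trans (RingHom.quotientKerEquivOfSurjective hg)), hβ]
    exact Nat.cast_le.2 (by omega)

end GrothLib.NagataJac
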